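import Groth.Agent.Krr.H498.ResClass
import Mathlib.Algebra.Homology.ShortComplex.HomologicalComplex

/-!
# The Euler characteristic of a complex with finite locally free resolutions

`sum_rcl`: `Σ_{k ≤ N} (-1)^k [P_k] = Σ_{k ≤ N} (-1)^k [H_k(P)]` in `K₀(vect Z)` for a complex `P` indexed by `ℕ`, zero in
degree `N + 1`, whose terms and homology modules have finite locally free resolutions.
-/

set_option autoImplicit false
universe u
open CategoryTheory CategoryTheory.Limits AlgebraicGeometry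
open scoped ZeroObject
attribute [local instance] HasDerivedCategory.standard

namespace Groth.Agent.Krr.H468.EulerCx

open Groth.Agent.Krr.H498.ResClass Groth.Agent.Krr.H498.ResPerf

variable {Z : Scheme.{u}} (P : ChainComplex Z.Modules ℕ)

/-- The boundaries. -/
noncomputable abbrev bd (k : ℕ) : Z.Modules := kernel (P.homologyπ k)

/-- The map onto the boundaries. -/
noncomputable def toBd (k : ℕ) : P.X (k + 1) ⟶ bd P k :=
  kernel.lift (P.homologyπ k) (P.toCycles (k + 1) k) (P.toCycles_comp_homologyπ _ _)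

theorem toBd_ι (k : ℕ) : toBd P k ≫ kernel.ι (P.homologyπ k) = P.toCycles (k + 1) k := kernel.lift_ι _ _ _

theorem ses_hom (k : ℕ) :
    (ShortComplex.mk (kernel.ι (P.homologyπ k)) (P.homologyπ k) (kernel.condition _)).ShortExact :=
  { exact := ShortComplex.exact_kernel _
    mono_f := inferInstanceAs (Mono (kernel.ι _))
    epi_g := inferInstanceAs (Epi (P.homologyπ k)) }

theorem cyc_toBd (k : ℕ) : P.iCycles (k + 1) ≫ toBd P k = 0 := by
  rw [← cancel_mono (kernel.ι (P.homologyπ k)), Category.assoc, toBd_ι, zero_comp, ← cancel_mono (P.iCycles k),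
    Category.assoc, P.toCycles_i, zero_comp, P.iCycles_d]

theorem ses_cyc (k : ℕ) : (ShortComplex.mk (P.iCycles (k + 1)) (toBd P k) (cyc_toBd P k)).ShortExact where
  exact := by
    have h1 : (ShortComplex.mk (P.iCycles (k + 1)) (P.d (k + 1) k) (P.iCycles_d _ _)).Exact :=
      ShortComplex.exact_of_f_is_kernel _ (P.cyclesIsKernel (k + 1) k (by simp))
    refine (ShortComplex.exact_iff_of_epi_of_isIso_of_mono
      (S₁ := ShortComplex.mk (P.iCycles (k + 1)) (toBd P k) (cyc_toBd P k))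
      (S₂ := ShortComplex.mk (P.iCycles (k + 1)) (P.d (k + 1) k) (P.iCycles_d _ _))
      { τ₁ := 𝟙 _
        τ₂ := 𝟙 _
        τ₃ := kernel.ι (P.homologyπ k) ≫ P.iCycles k
        comm₁₂ := by simp
        comm₂₃ := by
          change 𝟙 _ ≫ P.d (k + 1) k = toBd P k ≫ kernel.ι (P.homologyπ k) ≫ P.iCycles k
          rw [← Category.assoc, toBd_ι, P.toCycles_i, Category.id_comp] }).2 h1
  mono_f := inferInstanceAs (Mono (P.iCycles (k + 1)))
  epi_g := by
    have h1 : (ShortComplex.mk (P.toCycles (k + 1) k) (P.homologyπ k) (P.toCycles_comp_homologyπ _ _)).Exact :=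
      ShortComplex.exact_of_g_is_cokernel _ (P.homologyIsCokernel (k + 1) k (by simp))
    exact h1.epi_kernelLift

theorem isIso_iCycles_zero : IsIso (P.iCycles 0) :=
  P.isIso_iCycles 0 _ rfl (by simp)

variable [CompactSpace Z] [QuasiSeparatedSpace Z] (hZ : KRR.HasEnoughLocFree Z)
  (hP : ∀ k, KRR.HasLFRes (P.X k)) (hH : ∀ k, KRR.HasLFRes (P.homology k))

include hZ hP hH in
theorem hasLFRes_cycles_bd (k : ℕ) : KRR.HasLFRes (P.cycles k) ∧ KRR.HasLFRes (bd P k) := by
  have key : ∀ k, KRR.HasLFRes (P.cycles k) → KRR.HasLFRes (bd P k) := fun k h =>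
    hasLFRes_X₁ hZ (ses_hom P k) h (hH k)
  induction k with
  | zero =>
    have := isIso_iCycles_zero P
    have h0 : KRR.HasLFRes (P.cycles 0) := by
      have h1 := isPerfect_of_hasLFRes (hP 0)
      refine (hasLFRes_iff_isPerfect hZ).2 ?_
      exact PerfA.PerfLocal.isPerfect_of_iso
        ((DerivedCategory.singleFunctor Z.Modules 0).mapIso (asIso (P.iCycles 0)).symm) h1
    exact ⟨h0, key 0 h0⟩
  | succ k ih =>
    have h0 : KRR.HasLFRes (P.cycles (k + 1)) := hasLFRes_X₁ hZ (ses_cyc P k) (hP (k + 1)) ih.2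
    exact ⟨h0, key (k + 1) h0⟩

include hP hH in
theorem sum_rcl_aux (N : ℕ) : ∑ k ∈ Finset.range (N + 1), (-1 : ℤ) ^ k • rcl hZ (P.X k) =
    (-1 : ℤ) ^ N • rcl hZ (P.cycles N) + ∑ k ∈ Finset.range N, (-1 : ℤ) ^ k • rcl hZ (P.homology k) := by
  induction N with
  | zero =>
    have := isIso_iCycles_zero P
    rw [zero_add, Finset.sum_range_one, Finset.range_zero, Finset.sum_empty, add_zero, pow_zero, one_smul, one_smul]
    exact rcl_iso hZ (asIso (P.iCycles 0)).symm (hP 0)
  | succ N ih =>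
    have h1 : rcl hZ (P.cycles N) = rcl hZ (bd P N) + rcl hZ (P.homology N) :=
      rcl_shortExact hZ (ses_hom P N) (hasLFRes_cycles_bd P hZ hP hH N).2 (hasLFRes_cycles_bd P hZ hP hH N).1 (hH N)
    have h2 : rcl hZ (P.X (N + 1)) = rcl hZ (P.cycles (N + 1)) + rcl hZ (bd P N) :=
      rcl_shortExact hZ (ses_cyc P N) (hasLFRes_cycles_bd P hZ hP hH (N + 1)).1 (hP (N + 1))
        (hasLFRes_cycles_bd P hZ hP hH N).2
    rw [Finset.sum_range_succ, ih, Finset.sum_range_succ, h1, h2, pow_succ]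
    simp only [mul_neg, mul_one, smul_add, neg_smul]
    abel

include hP hH in
/-- The Euler characteristic. -/
theorem sum_rcl (N : ℕ) (hN : IsZero (P.X (N + 1))) :
    ∑ k ∈ Finset.range (N + 1), (-1 : ℤ) ^ k • rcl hZ (P.X k) =
      ∑ k ∈ Finset.range (N + 1), (-1 : ℤ) ^ k • rcl hZ (P.homology k) := by
  have h3 : IsZero (bd P N) := by
    have := (ses_cyc P N).epi_g
    exact IsZero.of_epi (toBd P N) hN
  have h1 : rcl hZ (P.cycles N) = rcl hZ (bd P N) + rcl hZ (P.homology N) :=
    rcl_shortExact hZ (ses_hom P N) (hasLFRes_cycles_bd P hZ hP hH N).2 (hasLFRes_cycles_bd P hZ hP hH N).1 (hH N)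
  rw [sum_rcl_aux P hZ hP hH, Finset.sum_range_succ, h1, rcl_isZero hZ h3, zero_add, add_comm]

end Groth.Agent.Krr.H468.EulerCx
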