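import Groth.Agent.Krr.H468.ExcMain

/-!
# The excess intersection formula from the vanishing of `H_p(φ^* L ⊗ J₁ⁿ⁺¹) ⟶ H_p(φ^* L ⊗ J₁ⁿ)`: `K`-theory
-/

set_option autoImplicit false
universe v u
open CategoryTheory CategoryTheory.Limits AlgebraicGeometry
attribute [local instance] HasDerivedCategory.standard

namespace Groth.Agent.Krr.H468.ExcFinal

open Groth.Agent.Krr.H489.PullRes Groth.Agent.Krr.H468.TCx Groth.Agent.Krr.H468.UPush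
  Groth.Agent.Krr.H498 Groth.Agent.Krr.H498.ResClass Groth.Agent.Krr.H498.ResPerf
  Groth.Agent.Sga67 Groth.Agent.Krr.H468.ExcMain

section Alg

variable {R : Type v} [CommRing R]

/-- The solution of the recursion. -/
def uu (s w : ℕ → R) (p n : ℕ) : R := ∑ j ∈ Finset.range (p + 1), (-1 : R) ^ j * (s (n + j) * w (p - j))

theorem uu_zero (s w : ℕ → R) (n : ℕ) : uu s w 0 n = s n * w 0 := by simp [uu]

theorem uu_succ (s w : ℕ → R) (p n : ℕ) : uu s w (p + 1) n + uu s w p (n + 1) = s n * w (p + 1) := by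
  rw [uu, Finset.sum_range_succ', uu]
  simp only [pow_zero, one_mul, add_zero, Nat.sub_zero, Nat.add_sub_add_right]
  rw [add_right_comm, ← Finset.sum_add_distrib, Finset.sum_eq_zero, zero_add]
  intro j _
  rw [pow_succ, show n + (j + 1) = n + 1 + j by ring]
  ring

end Alg

section Main

variable {X Y X₁ Y₁ : Scheme.{u}} {f : X ⟶ Y} {φ : Y₁ ⟶ Y} {f₁ : X₁ ⟶ Y₁} {ψ : X₁ ⟶ X}
  (hsq : IsPullback f₁ ψ φ f) (hf : Mor2.IsRegularClosedImmersion f)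
  (hf₁ : Mor2.IsRegularClosedImmersion f₁) [IsClosedImmersion f₁] {d₁ : ℕ}
  (hC₁ : FlatMod.IsFinLocFreeOfRank d₁ (Omega.conormal f₁))
  (hC : FlatMod.IsFinLocFree (Omega.conormal f))
  {F : X.Modules} (hF : FlatMod.IsFinLocFree F) {m : ℕ} {L : ChainComplex Y.Modules ℕ}
  {π : L ⟶ (ChainComplex.single₀ Y.Modules).obj ((Scheme.Modules.pushforward f).obj F)}
  (hL : KRR.IsLFRes ((Scheme.Modules.pushforward f).obj F) m L π)
  [IsNoetherian Y₁] (hY₁ : KRR.HasEnoughLocFree Y₁)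
  (hz : ∀ n p : ℕ, (U (pullCx φ L) p).map (IdealPow.incl f₁ n) = 0)
  {KX : Type v} [CommRing KX] [LambdaRing.LambdaOps KX] {PX : LambdaRing.PosStructure KX}
  {φX : SGA6.Kvb X →+ KX} (hKX : KRR.IsModel X KX PX φX)
  {KY : Type v} [CommRing KY] {φY : SGA6.Kvb Y →+ KY}
  {KX₁ : Type v} [CommRing KX₁] [LambdaRing.LambdaOps KX₁] {PX₁ : LambdaRing.PosStructure KX₁}
  {φX₁ : SGA6.Kvb X₁ →+ KX₁} (hKX₁ : KRR.IsModel X₁ KX₁ PX₁ φX₁)
  {KY₁ : Type v} [CommRing KY₁] {φY₁ : SGA6.Kvb Y₁ →+ KY₁}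
  {gψ : KX →+ KX₁} (hgψ : KRR.IsPull ψ φX φX₁ gψ) {gf₁ : KX₁ →+ KY₁} (hgf₁ : KRR.IsPushCl f₁ φX₁ φY₁ gf₁)

include hsq hf hf₁ hC₁ hC hF hL hz hKX₁ hgf₁ in
theorem phi_rcl_U (p : ℕ) : ∀ n : ℕ, φY₁ (rcl hY₁ ((U (pullCx φ L) p).obj (IdealPow.J f₁ n))) =
    gf₁ (uu (fun n => φX₁ (KRR.cl X₁ (IdealPow.S f₁ n))) (fun p => φX₁ (KRR.cl X₁ (W ψ f L p))) p n) := by
  have hP := flat_pullCx (φ := φ) hL
  have hS := Krr.H472.KoszulRel.isFinLocFree_S f₁ hf₁ d₁ hC₁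
  have hU := hasLFRes_U hsq hf hf₁ hC₁ hC hF hL hY₁ hz
  have key0 : ∀ n p, KRR.HasLFRes ((U (pullCx φ L) p).obj
      ((Scheme.Modules.pushforward f₁).obj (IdealPow.S f₁ n))) := by
    intro n p
    obtain ⟨e⟩ := nonempty_U hsq hf hC hF hL (IdealPow.S f₁ n) (hS n) p
    exact hasLFRes_iso hY₁ e.symm (PushRes.hasLFRes_pushforward hY₁ f₁ hf₁
      (LocBasis.isFinLocFree_tensorMod (hS n) (flf_W hf hC hF hL p)))
  have key : ∀ n p, φY₁ (rcl hY₁ ((U (pullCx φ L) p).obj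
      ((Scheme.Modules.pushforward f₁).obj (IdealPow.S f₁ n)))) =
      gf₁ (φX₁ (KRR.cl X₁ (IdealPow.S f₁ n)) * φX₁ (KRR.cl X₁ (W ψ f L p))) := by
    intro n p
    obtain ⟨e⟩ := nonempty_U hsq hf hC hF hL (IdealPow.S f₁ n) (hS n) p
    rw [rcl_iso hY₁ e (key0 n p), hKX₁.map_mul _ _ (hS n) (flf_W hf hC hF hL p)]
    exact ((PushCl.isPushCl_iff f₁ hY₁ φX₁ φY₁ (PushCl.goodPush_of_regular f₁ hY₁ hf₁) gf₁).1 hgf₁ _
      (LocBasis.isFinLocFree_tensorMod (hS n) (flf_W hf hC hF hL p))).symm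
  induction p with
  | zero =>
    intro n
    have := isIso_map_zero _ hP (IdealPow.ses_shortExact f₁ n) (hz n 0)
    have h1 : rcl hY₁ ((U (pullCx φ L) 0).obj (IdealPow.J f₁ n)) = rcl hY₁ ((U (pullCx φ L) 0).obj
        ((Scheme.Modules.pushforward f₁).obj (IdealPow.S f₁ n))) :=
      rcl_iso hY₁ (@asIso _ _ _ _ _ this) (hU 0 n)
    rw [uu_zero, h1]
    exact key n 0
  | succ p ih =>
    intro n
    have h1 := shortExact_of_zero _ hP (IdealPow.ses_shortExact f₁ n) p (hz n p) (hz n (p + 1))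
    have h2 := congrArg φY₁ (rcl_shortExact hY₁ h1 (hU (p + 1) n) (key0 n (p + 1)) (hU p (n + 1)))
    rw [map_add] at h2
    have h3 : φY₁ (rcl hY₁ ((U (pullCx φ L) (p + 1)).obj (IdealPow.J f₁ n))) +
        φY₁ (rcl hY₁ ((U (pullCx φ L) p).obj (IdealPow.J f₁ (n + 1)))) =
        gf₁ (φX₁ (KRR.cl X₁ (IdealPow.S f₁ n)) * φX₁ (KRR.cl X₁ (W ψ f L (p + 1)))) :=
      h2.symm.trans (key n (p + 1))
    rw [ih (n + 1)] at h3
    rw [eq_sub_of_add_eq h3, ← map_sub]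
    congr 1
    exact (eq_sub_of_add_eq (uu_succ (fun n => φX₁ (KRR.cl X₁ (IdealPow.S f₁ n)))
      (fun p => φX₁ (KRR.cl X₁ (W ψ f L p))) p n)).symm

include hf hC hF hL hKX hKX₁ hgψ in
theorem phi_W (p : ℕ) : φX₁ (KRR.cl X₁ (W ψ f L p)) =
    gψ (φX (KRR.cl X F)) * LambdaRing.LambdaOps.lam p (gψ (φX (KRR.cl X (Omega.conormal f)))) := by
  obtain ⟨E, hE, hE'⟩ := Krr.H495.ExtExist.exists_isExtPow p (Omega.conormal f) hC
  obtain ⟨e⟩ := KosChain.nonempty_homology hf (fun k => isFlat_of_isFinLocFree (hL.finLocFree k))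
    ((LFRes.isLFRes_iff.1 hL).2.2) p hE'
  have h0 := flf_homology hf hC hF hL p
  have h1 : φX (KRR.cl X ((pullCx f L).homology p)) =
      φX (KRR.cl X F) * LambdaRing.LambdaOps.lam p (φX (KRR.cl X (Omega.conormal f))) := by
    rw [hKX.map_lam p _ _ hC hE hE', hKX.map_mul _ _ hF hE]
    exact congrArg φX (Krr.H482.PullLambda.cl_iso e h0)
  rw [← Krr.H482.PullFinal.pull_lam hKX₁ hKX hgψ, ← Krr.H482.PullLambda.pull_mul hKX₁ hKX hgψ, ← h1]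
  exact (hgψ _ h0).symm

include hsq hf hf₁ hC₁ hC hF hL hz hKX hKX₁ hgψ hgf₁ in
/-- The class of `H_p(φ^* L)`. -/
theorem phi_rcl_homology (p : ℕ) : φY₁ (rcl hY₁ ((pullCx φ L).homology p)) =
    gf₁ (gψ (φX (KRR.cl X F)) * LambdaRing.LambdaOps.lam p
      (gψ (φX (KRR.cl X (Omega.conormal f))) - φX₁ (KRR.cl X₁ (Omega.conormal f₁)))) := by
  have h1 := phi_rcl_U hsq hf hf₁ hC₁ hC hF hL hY₁ hz hKX₁ hgf₁ p 0
  have hU := hasLFRes_U hsq hf hf₁ hC₁ hC hF hL hY₁ hz p 0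
  have h2 : rcl hY₁ ((U (pullCx φ L) p).obj (IdealPow.J f₁ 0)) = rcl hY₁ ((pullCx φ L).homology p) :=
    rcl_iso hY₁ (uUnitIso (pullCx φ L) p) hU
  rw [← h2, h1]
  congr 1
  exact Krr.H472.ExcRec.u_zero_eq _ _ _ _ (fun p => φX₁ (KRR.cl X₁ (W ψ f L p))) _
    (Krr.H472.KoszulRel.model_S_zero f₁ hKX₁) (Krr.H472.KoszulRel.model_relation f₁ hf₁ d₁ hC₁ hKX₁)
    (uu_zero _ _) (uu_succ _ _) (phi_W hf hC hF hL hKX hKX₁ hgψ) p

include hsq hf hf₁ hC₁ hC hF hL hz hY₁ in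
theorem hasLFRes_homology (p : ℕ) : KRR.HasLFRes ((pullCx φ L).homology p) :=
  hasLFRes_iso hY₁ (uUnitIso (pullCx φ L) p) (hasLFRes_U hsq hf hf₁ hC₁ hC hF hL hY₁ hz p 0)

end Main

end Groth.Agent.Krr.H468.ExcFinal
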