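import Groth.Agent.Krr.H498.LFRes
import Groth.Agent.Krr.H489.PullRes
import Groth.Agent.Sga67.KosGlobal
import Groth.Agent.Dcoh.Spread

/-!
# The homology of `f^* L` for a finite locally free resolution `L → f_* F`, `f` a regular closed immersion

`nonempty_homology`: `H_p(f^* L) ≅ F ⊗ Λ^p C`, `C` the conormal module; `isZero_homology`: it vanishes for `p > rank C`.
-/

set_option autoImplicit false
universe u
open CategoryTheory CategoryTheory.Limits AlgebraicGeometry

namespace Groth.Agent.Krr.H468.KosChain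

open Groth.Agent.Krr.H489.PullRes Groth.Agent.Krr.H498 Groth.Agent.Sga67.KosStalk Groth.Agent.Sga67

section HDsec

variable {Y : Scheme.{u}} (C : ChainComplex Y.Modules ℕ)

theorem exists_cycle_iff (n m : ℕ) (h : (ComplexShape.down ℕ).next n = m) (V : Y.Opens) (c : SM (C.X n) V) :
    ap (C.d n m) V c = 0 ↔ ∃ t : SM (C.cycles n) V, ap (C.iCycles n) V t = c := by
  constructor
  · intro hc
    have hex : (ShortComplex.mk (C.iCycles n) (C.d n m) (C.iCycles_d n m)).Exact :=
      ShortComplex.exact_of_f_is_kernel _ (C.cyclesIsKernel n m h)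
    have : Mono (ShortComplex.mk (C.iCycles n) (C.d n m) (C.iCycles_d n m)).f :=
      inferInstanceAs (Mono (C.iCycles n))
    obtain ⟨t, ht⟩ := Sec.exists_of_appS_eq_zero hex (toSM.symm c) hc
    exact ⟨toSM t, ht⟩
  · rintro ⟨t, rfl⟩
    rw [← ap_comp, C.iCycles_d, ap_zero]

/-- The homology data of a chain complex. -/
noncomputable def hdOf (p : ℕ) : KosTheta.HD C.X (fun q : ℕ => C.d (q + 1) q) p (C.homology p) where
  Z := C.cycles p
  ι := C.iCycles p
  π := C.homologyπ p
  δ := C.toCycles (p + 1) p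
  hδ := C.toCycles_i _ _
  mono := inferInstance
  epi := inferInstance
  w := C.toCycles_comp_homologyπ _ _
  ex := ShortComplex.exact_of_g_is_cokernel _ (C.homologyIsCokernel _ _ (by simp))
  cyc := by
    intro V c
    cases p with
    | zero =>
      have h0 : C.d 0 ((ComplexShape.down ℕ).next 0) = 0 := by simp
      refine Iff.trans ?_ (exists_cycle_iff C 0 _ rfl V c)
      rw [h0, ap_zero]
      exact ⟨fun _ => rfl, fun _ => trivial⟩
    | succ q => exact exists_cycle_iff C (q + 1) q (by simp) V c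

end HDsec

variable {X Y : Scheme.{u}} {f : X ⟶ Y} {F : X.Modules} {L : ChainComplex Y.Modules ℕ}
  {π : L ⟶ (ChainComplex.single₀ Y.Modules).obj ((Scheme.Modules.pushforward f).obj F)}

/-- The resolution data of a flat resolution. -/
noncomputable def datOf (hL : ∀ k, FlatMod.IsFlat (L.X k)) (h : ResCat.Ex π) : KosTheta.Dat f F where
  P := L.X
  d q := L.d (q + 1) q
  dd q := L.d_comp_d _ _ _
  ε := ResCat.aug π
  dε := ResCat.d_comp_aug π
  epi := h.epi
  ex0 := h.exact_zero
  ex := h.exact_succ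
  flat := hL

/-- The homology data of `f^* L`. -/
noncomputable def hdPull (hL : ∀ k, FlatMod.IsFlat (L.X k)) (h : ResCat.Ex π) (p : ℕ) :
    KosTheta.HD (datOf hL h).K (datOf hL h).dK p ((pullCx f L).homology p) :=
  hdOf (pullCx f L) p

/-- `H_p(f^* L) ≅ F ⊗ Λ^p C`. -/
theorem nonempty_homology (hf : Mor2.IsRegularClosedImmersion f) (hL : ∀ k, FlatMod.IsFlat (L.X k))
    (h : ResCat.Ex π) (p : ℕ) {E : X.Modules} (hE : ExtPow.IsExtPow p (Omega.conormal f) E) :
    Nonempty ((pullCx f L).homology p ≅ CohB1.tensorMod F E) := by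
  have := hf.1
  exact KosGlobal.nonempty_iso (datOf hL h) (hdPull hL h p) hf hE

/-- `H_p(f^* L) = 0` for `p` larger than the rank of the conormal module. -/
theorem isZero_homology (hf : Mor2.IsRegularClosedImmersion f) (hL : ∀ k, FlatMod.IsFlat (L.X k))
    (h : ResCat.Ex π) {r : ℕ} (hN : FlatMod.IsFinLocFreeOfRank r (Omega.conormal f)) (p : ℕ) (hp : r < p) :
    IsZero ((pullCx f L).homology p) := by
  have := hf.1
  exact KosGlobal.isZero (datOf hL h) (hdPull hL h p) hf hN hp

/-- `H_p(f^* L)` is finite locally free. -/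
theorem isFinLocFree_homology (hf : Mor2.IsRegularClosedImmersion f) (hL : ∀ k, FlatMod.IsFlat (L.X k))
    (h : ResCat.Ex π) (hF : FlatMod.IsFinLocFree F) (p : ℕ) {E : X.Modules} (hE : ExtPow.IsExtPow p (Omega.conormal f) E)
    (hE' : FlatMod.IsFinLocFree E) : FlatMod.IsFinLocFree ((pullCx f L).homology p) := by
  obtain ⟨e⟩ := nonempty_homology hf hL h p hE
  exact LocBasis.isFinLocFree_of_iso e.symm (LocBasis.isFinLocFree_tensorMod hF hE')

end Groth.Agent.Krr.H468.KosChain
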