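import Groth.Agent.Dcoh.FlatSES
import Groth.Agent.Krr.H496.PullK0
import Groth.Agent.Krr.H489.PullRes
import Mathlib.Algebra.Homology.ShortComplex.PreservesHomology
import Mathlib.Algebra.Homology.ShortComplex.HomologicalComplex

/-!
# Pull-back commutes with the homology of complexes of flat modules with flat homology

* `preservesKernel`: `g^*` preserves the kernel of `d : M ⟶ N` if `N` and `coker d` are flat.
* `nonempty_homology_pullCx`: for a complex `K` (indexed by `ℕ`, differential of degree `-1`) of flat modules with flat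
  homology, `H_p(g^* K) ≅ g^* H_p(K)`.
-/

set_option autoImplicit false
universe u
open CategoryTheory CategoryTheory.Limits AlgebraicGeometry

namespace Groth.Agent.Krr.H468.HomPull

open Groth.Agent.Krr.H489.PullRes

variable {X Y : Scheme.{u}}

/-- The image of `M ⟶ N` is flat if `N` and the cokernel are. -/
theorem isFlat_image {M N : X.Modules} (d : M ⟶ N) (hN : FlatMod.IsFlat N)
    (hc : FlatMod.IsFlat (cokernel d)) : FlatMod.IsFlat (kernel (cokernel.π d)) :=
  Dcoh.FlatSES.isFlat_kernel (cokernel.π d) hN hc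

theorem preservesKernel (g : Y ⟶ X) {M N : X.Modules} (d : M ⟶ N) (hN : FlatMod.IsFlat N)
    (hc : FlatMod.IsFlat (cokernel d)) :
    PreservesLimit (parallelPair d 0) (Scheme.Modules.pullback g) := by
  let F := Scheme.Modules.pullback g
  let I := kernel (cokernel.π d)
  let ι : I ⟶ N := kernel.ι (cokernel.π d)
  let π : M ⟶ I := kernel.lift (cokernel.π d) d (cokernel.condition d)
  have hπι : π ≫ ι = d := kernel.lift_ι _ _ _
  have hπ : Epi π := by
    have h1 : (ShortComplex.mk d (cokernel.π d) (cokernel.condition d)).Exact := ShortComplex.exact_cokernel d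
    exact h1.epi_kernelLift
  -- first short exact sequence
  have s1 : (ShortComplex.mk ι (cokernel.π d) (kernel.condition _)).ShortExact :=
    { exact := ShortComplex.exact_kernel _ }
  have w2 : kernel.ι d ≫ π = 0 := by
    rw [← cancel_mono ι, Category.assoc, hπι, zero_comp, kernel.condition]
  have s2 : (ShortComplex.mk (kernel.ι d) π w2).ShortExact :=
    { exact := by
        refine (ShortComplex.exact_iff_of_epi_of_isIso_of_mono
          (S₁ := ShortComplex.mk (kernel.ι d) π w2) (S₂ := ShortComplex.mk (kernel.ι d) d (kernel.condition d))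
          { τ₁ := 𝟙 _, τ₂ := 𝟙 _, τ₃ := ι, comm₁₂ := by simp, comm₂₃ := by simp [hπι] }).2 ?_
        exact ShortComplex.exact_kernel d
      mono_f := inferInstanceAs (Mono (kernel.ι d))
      epi_g := hπ }
  have hI : FlatMod.IsFlat I := isFlat_image d hN hc
  have t1 := Krr.H496.PullK0.shortExact_pullback_of_isFlat g s1 hc
  have t2 := Krr.H496.PullK0.shortExact_pullback_of_isFlat g s2 hI
  have hm : Mono (F.map ι) := t1.mono_f
  have hm2 : Mono (F.map (kernel.ι d)) := t2.mono_f
  have w3 : F.map (kernel.ι d) ≫ F.map d = 0 := by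
    rw [← F.map_comp, kernel.condition, F.map_zero]
  have w4 : F.map (kernel.ι d) ≫ F.map π = 0 := by
    rw [← F.map_comp, w2, F.map_zero]
  have hex : (ShortComplex.mk (F.map (kernel.ι d)) (F.map d) w3).Exact := by
    have t3 : (ShortComplex.mk (F.map (kernel.ι d)) (F.map π) w4).Exact := t2.exact
    have hd : F.map π ≫ F.map ι = F.map d := by rw [← F.map_comp, hπι]
    refine (ShortComplex.exact_iff_of_epi_of_isIso_of_mono
      (S₁ := ShortComplex.mk (F.map (kernel.ι d)) (F.map π) w4)
      (S₂ := ShortComplex.mk (F.map (kernel.ι d)) (F.map d) w3)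
      { τ₁ := 𝟙 _, τ₂ := 𝟙 _, τ₃ := F.map ι, comm₁₂ := by simp, comm₂₃ := by simp [hd] }).1 t3
  refine preservesLimit_of_preserves_limit_cone (kernelIsKernel d)
    ((KernelFork.isLimitMapConeEquiv _ F).symm ?_)
  exact hex.fIsKernel

/-- Flatness in a four term exact sequence `0 ⟶ H ⟶ A ⟶ B ⟶ C ⟶ 0`. -/
theorem isFlat_of_four {H A B C : X.Modules} (a : H ⟶ A) (b : A ⟶ B) (c : B ⟶ C)
    (wab : a ≫ b = 0) (wbc : b ≫ c = 0) [Mono a] (hab : (ShortComplex.mk a b wab).Exact)
    (hbc : (ShortComplex.mk b c wbc).Exact) [Epi c] (hH : FlatMod.IsFlat H)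
    (hB : FlatMod.IsFlat B) (hC : FlatMod.IsFlat C) : FlatMod.IsFlat A := by
  have hI : FlatMod.IsFlat (kernel c) := Dcoh.FlatSES.isFlat_kernel c hB hC
  have hepi : Epi (kernel.lift c b wbc) := hbc.epi_kernelLift
  have w2 : a ≫ kernel.lift c b wbc = 0 := by
    rw [← cancel_mono (kernel.ι c), Category.assoc, kernel.lift_ι, zero_comp, wab]
  have hs : (ShortComplex.mk a (kernel.lift c b wbc) w2).ShortExact :=
    { exact := by
        refine (ShortComplex.exact_iff_of_epi_of_isIso_of_mono
          (S₁ := ShortComplex.mk a (kernel.lift c b wbc) w2) (S₂ := ShortComplex.mk a b wab)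
          { τ₁ := 𝟙 _, τ₂ := 𝟙 _, τ₃ := kernel.ι c, comm₁₂ := by simp, comm₂₃ := by simp }).2 hab
      mono_f := inferInstanceAs (Mono a)
      epi_g := hepi }
  exact Dcoh.FlatSES.isFlat_X₂ hs hH hI

section Cx

variable (K : ChainComplex X.Modules ℕ) (hK : ∀ k, FlatMod.IsFlat (K.X k))
  (hH : ∀ k, FlatMod.IsFlat (K.homology k))

include hK hH in
theorem isFlat_opcycles (k : ℕ) : FlatMod.IsFlat (K.opcycles k) := by
  induction k with
  | zero =>
    have h0 : K.d 0 ((ComplexShape.down ℕ).next 0) = 0 := by simp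
    have : IsIso (K.homologyι 0) := K.isIso_homologyι 0 _ rfl h0
    exact Dcoh.FlatRes.isFlat_of_iso (asIso (K.homologyι 0)) (hH 0)
  | succ k ih =>
    have hn : (ComplexShape.down ℕ).next (k + 1) = k := by simp
    have hp : (ComplexShape.down ℕ).prev k = k + 1 := by simp
    have hab : (ShortComplex.mk (K.homologyι (k + 1)) (K.fromOpcycles (k + 1) k)
        (K.homologyι_comp_fromOpcycles (k + 1) k)).Exact :=
      ShortComplex.exact_of_f_is_kernel _ (K.homologyIsKernel (k + 1) k hn)
    have w : K.fromOpcycles (k + 1) k ≫ K.pOpcycles k = 0 := by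
      rw [← cancel_epi (K.pOpcycles (k + 1)), K.p_fromOpcycles_assoc, K.d_pOpcycles, comp_zero]
    have hbc : (ShortComplex.mk (K.fromOpcycles (k + 1) k) (K.pOpcycles k) w).Exact := by
      have h1 : (ShortComplex.mk (K.d (k + 1) k) (K.pOpcycles k) (K.d_pOpcycles _ _)).Exact :=
        ShortComplex.exact_of_g_is_cokernel _ (K.opcyclesIsCokernel (k + 1) k hp)
      refine (ShortComplex.exact_iff_of_epi_of_isIso_of_mono
        (S₁ := ShortComplex.mk (K.d (k + 1) k) (K.pOpcycles k) (K.d_pOpcycles _ _))
        (S₂ := ShortComplex.mk (K.fromOpcycles (k + 1) k) (K.pOpcycles k) w)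
        { τ₁ := K.pOpcycles (k + 1), τ₂ := 𝟙 _, τ₃ := 𝟙 _, comm₁₂ := by simp, comm₂₃ := by simp }).1 h1
    exact isFlat_of_four _ _ _ _ w hab hbc (hH (k + 1)) (hK k) ih

include hK hH in
theorem isFlat_cokernel_d (i j : ℕ) : FlatMod.IsFlat (cokernel (K.d i j)) := by
  by_cases hij : (ComplexShape.down ℕ).Rel i j
  · have hij' : j + 1 = i := hij
    subst hij'
    have hp : (ComplexShape.down ℕ).prev j = j + 1 := by simp
    let e := IsColimit.coconePointUniqueUpToIso (K.opcyclesIsCokernel (j + 1) j hp)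
      (cokernelIsCokernel (K.d (j + 1) j))
    exact Dcoh.FlatRes.isFlat_of_iso e (isFlat_opcycles K hK hH j)
  · have h0 : K.d i j = 0 := K.shape _ _ hij
    rw [h0]
    exact Dcoh.FlatRes.isFlat_of_iso cokernelZeroIsoTarget.symm (hK j)

include hK hH in
/-- Pull-back commutes with the homology of a complex of flat modules with flat homology. -/
theorem nonempty_homology_pullCx (g : Y ⟶ X) (p : ℕ) :
    Nonempty ((pullCx g K).homology p ≅ (Scheme.Modules.pullback g).obj (K.homology p)) := by
  have h1 : PreservesLimit (parallelPair (K.sc p).g 0) (Scheme.Modules.pullback g) :=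
    preservesKernel g (K.d p _) (hK _) (isFlat_cokernel_d K hK hH _ _)
  have h2 : (Scheme.Modules.pullback g).PreservesLeftHomologyOf (K.sc p) :=
    ⟨fun h => { g := h1, f' := inferInstance }⟩
  exact ⟨(K.sc p).mapHomologyIso (Scheme.Modules.pullback g)⟩

end Cx

end Groth.Agent.Krr.H468.HomPull
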