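import Groth.Agent.Krr.H468.TCx
import Groth.Agent.Krr.H468.HomPull
import Groth.Agent.Sga67.ClosedTens
import Groth.Agent.Sga67.ClosedPush

/-!
# The modules `U_p(f₁_* G) = H_p(f₁_* G ⊗ P)` for a closed immersion `f₁` and a flat module `G`

* `nonempty_U_push`: `U_p(f₁_* G) ≅ f₁_*(G ⊗ H_p(f₁^* P))`.
* `nonempty_U_pull`: for a commutative square `f₁ ≫ φ = ψ ≫ f`, `P = φ^* L`, and `f^* L` termwise flat with flat homology:
  `U_p(f₁_* G) ≅ f₁_*(G ⊗ ψ^* H_p(f^* L))`.
-/

set_option autoImplicit false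
universe u v₁ v₂ u₁ u₂
open CategoryTheory CategoryTheory.Limits AlgebraicGeometry

namespace Groth.Agent.Krr.H468.UPush

open Groth.Agent.Krr.H489.PullRes Groth.Agent.Krr.H468.TCx Groth.Agent.Krr.H468.HomPull

section Abstract

variable {A : Type u₁} [Category.{v₁} A] [Abelian A] {B : Type u₂} [Category.{v₂} B] [Abelian B]

/-- An exact functor commutes with homology. -/
noncomputable def homologyMapIso (F : A ⥤ B) [F.PreservesZeroMorphisms] [PreservesFiniteLimits F]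
    [PreservesFiniteColimits F] (K : ChainComplex A ℕ) (p : ℕ) :
    ((F.mapHomologicalComplex (ComplexShape.down ℕ)).obj K).homology p ≅ F.obj (K.homology p) :=
  (K.sc p).mapHomologyIso F

end Abstract

/-- Composition of pull-backs of complexes. -/
noncomputable def pullCxComp {X Y Z : Scheme.{u}} (f : X ⟶ Y) (g : Y ⟶ Z) (L : ChainComplex Z.Modules ℕ) :
    pullCx f (pullCx g L) ≅ pullCx (f ≫ g) L :=
  (NatIso.mapHomologicalComplex (Scheme.Modules.pullbackComp f g) (ComplexShape.down ℕ)).app L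

/-- Pull-backs of complexes along equal morphisms. -/
noncomputable def pullCxCongr {X Y : Scheme.{u}} {f g : X ⟶ Y} (h : f = g) (L : ChainComplex Y.Modules ℕ) :
    pullCx f L ≅ pullCx g L :=
  eqToIso (by rw [h])

/-- Base change for complexes along a commutative square. -/
noncomputable def pullCxSquare {X Y X₁ Y₁ : Scheme.{u}} {f : X ⟶ Y} {φ : Y₁ ⟶ Y} {f₁ : X₁ ⟶ Y₁} {ψ : X₁ ⟶ X}
    (h : f₁ ≫ φ = ψ ≫ f) (L : ChainComplex Y.Modules ℕ) : pullCx f₁ (pullCx φ L) ≅ pullCx ψ (pullCx f L) :=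
  pullCxComp f₁ φ L ≪≫ pullCxCongr h L ≪≫ (pullCxComp ψ f L).symm

variable {X₁ Y₁ : Scheme.{u}} (f₁ : X₁ ⟶ Y₁) [IsClosedImmersion f₁]

theorem nonempty_U_push (P : ChainComplex Y₁.Modules ℕ) (G : X₁.Modules) (hG : FlatMod.IsFlat G) (p : ℕ) :
    Nonempty ((U P p).obj ((Scheme.Modules.pushforward f₁).obj G) ≅
      (Scheme.Modules.pushforward f₁).obj (((DCoh.tensorBi (X := X₁)).obj G).obj ((pullCx f₁ P).homology p))) := by
  have h1 : PreservesFiniteColimits (Scheme.Modules.pushforward f₁) :=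
    Sga67.ClosedPush.preservesFiniteColimits_pushforward f₁
  have h2 : PreservesFiniteLimits ((DCoh.tensorBi (X := X₁)).obj G) :=
    Dcoh.Stalk.preservesFiniteLimits_tensorBi_obj G hG
  let F : X₁.Modules ⥤ Y₁.Modules := (DCoh.tensorBi (X := X₁)).obj G ⋙ Scheme.Modules.pushforward f₁
  have h3 : PreservesFiniteLimits F := inferInstanceAs (PreservesFiniteLimits (_ ⋙ _))
  have h4 : PreservesFiniteColimits F := inferInstanceAs (PreservesFiniteColimits (_ ⋙ _))
  have h5 : F.PreservesZeroMorphisms := inferInstanceAs ((_ ⋙ _ : X₁.Modules ⥤ Y₁.Modules).PreservesZeroMorphisms)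
  let e1 : (tcxF P).obj ((Scheme.Modules.pushforward f₁).obj G) ≅
      (F.mapHomologicalComplex (ComplexShape.down ℕ)).obj (pullCx f₁ P) :=
    (NatIso.mapHomologicalComplex (Sga67.ClosedTens.closedTensIso f₁ G) (ComplexShape.down ℕ)).app P
  exact ⟨HomologicalComplex.homologyMapIso e1 p ≪≫ homologyMapIso F (pullCx f₁ P) p⟩

variable {X Y : Scheme.{u}} {f : X ⟶ Y} {φ : Y₁ ⟶ Y} {ψ : X₁ ⟶ X}

theorem nonempty_U_pull (h : f₁ ≫ φ = ψ ≫ f) (L : ChainComplex Y.Modules ℕ)
    (hK : ∀ k, FlatMod.IsFlat ((pullCx f L).X k)) (hH : ∀ k, FlatMod.IsFlat ((pullCx f L).homology k))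
    (G : X₁.Modules) (hG : FlatMod.IsFlat G) (p : ℕ) :
    Nonempty ((U (pullCx φ L) p).obj ((Scheme.Modules.pushforward f₁).obj G) ≅
      (Scheme.Modules.pushforward f₁).obj (((DCoh.tensorBi (X := X₁)).obj G).obj
        ((Scheme.Modules.pullback ψ).obj ((pullCx f L).homology p)))) := by
  obtain ⟨e1⟩ := nonempty_U_push f₁ (pullCx φ L) G hG p
  obtain ⟨e2⟩ := nonempty_homology_pullCx (pullCx f L) hK hH ψ p
  exact ⟨e1 ≪≫ (Scheme.Modules.pushforward f₁).mapIso (((DCoh.tensorBi (X := X₁)).obj G).mapIso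
    (HomologicalComplex.homologyMapIso (pullCxSquare h L) p ≪≫ e2))⟩

end Groth.Agent.Krr.H468.UPush
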