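import Groth.Agent.Krr.H468.TCx
import Groth.Agent.Krr.H468.UPush
import Groth.Agent.Krr.H468.KosChain
import Groth.Agent.Krr.H468.EulerCx
import Groth.Agent.Krr.H498.PushCl
import Groth.Agent.Krr.H482.PullFinal
import Groth.Agent.Krr.H487.Taut
import Groth.Agent.Krr.H472.ExcRec
import Groth.Agent.Krr.H472.KoszulRel
import Groth.Agent.Krr.H473.QProj
import Groth.Agent.Grpsch.ConormalIso
import Groth.Agent.Dcoh.MonCat

/-!
# The excess intersection formula from the vanishing of `H_p(φ^* L ⊗ J₁ⁿ⁺¹) ⟶ H_p(φ^* L ⊗ J₁ⁿ)`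
-/

set_option autoImplicit false
universe v u
open CategoryTheory CategoryTheory.Limits AlgebraicGeometry
attribute [local instance] HasDerivedCategory.standard

namespace Groth.Agent.Krr.H468.ExcMain

open Groth.Agent.Krr.H489.PullRes Groth.Agent.Krr.H468.TCx Groth.Agent.Krr.H468.UPush
  Groth.Agent.Krr.H498 Groth.Agent.Krr.H498.ResClass Groth.Agent.Krr.H498.ResPerf
  Groth.Agent.Sga67

section Gen

variable {Z : Scheme.{u}}

theorem hasLFRes_iso [CompactSpace Z] [QuasiSeparatedSpace Z] (hZ : KRR.HasEnoughLocFree Z) {M N : Z.Modules}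
    (e : M ≅ N) (h : KRR.HasLFRes M) : KRR.HasLFRes N := by
  refine (hasLFRes_iff_isPerfect hZ).2 ?_
  exact PerfA.PerfLocal.isPerfect_of_iso ((DerivedCategory.singleFunctor Z.Modules 0).mapIso e)
    (isPerfect_of_hasLFRes h)

open scoped Groth.Agent.Dcoh.MonCat in
/-- `O ⊗ - ≅ id`. -/
noncomputable def unitTensIso : (DCoh.tensorBi (X := Z)).obj (Coh.structureModule Z) ≅ 𝟭 Z.Modules :=
  NatIso.ofComponents (fun M => MonoidalCategory.leftUnitor M)
    (fun g => MonoidalCategory.leftUnitor_naturality g)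

/-- `U_p(O) ≅ H_p(P)`. -/
noncomputable def uUnitIso (P : ChainComplex Z.Modules ℕ) (p : ℕ) :
    (U P p).obj (Coh.structureModule Z) ≅ P.homology p :=
  HomologicalComplex.homologyMapIso
    ((NatIso.mapHomologicalComplex unitTensIso (ComplexShape.down ℕ)).app P ≪≫
      (HomologicalComplex.Hom.isoOfComponents (fun _ => Iso.refl _) (fun _ _ _ => by
        change 𝟙 _ ≫ P.d _ _ = P.d _ _ ≫ 𝟙 _
        rw [Category.id_comp, Category.comp_id]))) p

theorem isFlat_of_isFinLocFree {M : Z.Modules} (h : FlatMod.IsFinLocFree M) : FlatMod.IsFlat M :=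
  Dcoh.Spread.isFlat_of_isFinLocFree h

end Gen

section Main

variable {X Y X₁ Y₁ : Scheme.{u}} {f : X ⟶ Y} {φ : Y₁ ⟶ Y} {f₁ : X₁ ⟶ Y₁} {ψ : X₁ ⟶ X}

section Geo

variable (hsq : IsPullback f₁ ψ φ f) (hf : Mor2.IsRegularClosedImmersion f)
  (hf₁ : Mor2.IsRegularClosedImmersion f₁) [IsClosedImmersion f₁] {d₁ : ℕ}
  (hC₁ : FlatMod.IsFinLocFreeOfRank d₁ (Omega.conormal f₁))
  (hC : FlatMod.IsFinLocFree (Omega.conormal f))
  {F : X.Modules} (hF : FlatMod.IsFinLocFree F) {m : ℕ} {L : ChainComplex Y.Modules ℕ}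
  {π : L ⟶ (ChainComplex.single₀ Y.Modules).obj ((Scheme.Modules.pushforward f).obj F)}
  (hL : KRR.IsLFRes ((Scheme.Modules.pushforward f).obj F) m L π)

include hf hC hF hL in
theorem flf_homology (p : ℕ) : FlatMod.IsFinLocFree ((pullCx f L).homology p) := by
  obtain ⟨E, hE, hE'⟩ := Krr.H495.ExtExist.exists_isExtPow p (Omega.conormal f) hC
  exact KosChain.isFinLocFree_homology hf (fun k => isFlat_of_isFinLocFree (hL.finLocFree k))
    ((LFRes.isLFRes_iff.1 hL).2.2) hF p hE' hE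

/-- The module `W_p = ψ^* H_p(f^* L)`. -/
noncomputable abbrev W (ψ : X₁ ⟶ X) (f : X ⟶ Y) (L : ChainComplex Y.Modules ℕ) (p : ℕ) : X₁.Modules :=
  (Scheme.Modules.pullback ψ).obj ((pullCx f L).homology p)

include hf hC hF hL in
theorem flf_W (p : ℕ) : FlatMod.IsFinLocFree (W ψ f L p) :=
  PerfB.FlatPull.isFinLocFree_pullback ψ (flf_homology hf hC hF hL p)

include hsq hf hC hF hL in
theorem nonempty_U (G : X₁.Modules) (hG : FlatMod.IsFinLocFree G) (p : ℕ) :
    Nonempty ((U (pullCx φ L) p).obj ((Scheme.Modules.pushforward f₁).obj G) ≅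
      (Scheme.Modules.pushforward f₁).obj (((DCoh.tensorBi (X := X₁)).obj G).obj (W ψ f L p))) :=
  nonempty_U_pull f₁ hsq.w L
    (fun k => isFlat_of_isFinLocFree (PerfB.FlatPull.isFinLocFree_pullback f (hL.finLocFree k)))
    (fun k => isFlat_of_isFinLocFree (flf_homology hf hC hF hL k)) G (isFlat_of_isFinLocFree hG) p

include hL in
theorem flat_pullCx (k : ℕ) : FlatMod.IsFlat ((pullCx φ L).X k) :=
  isFlat_of_isFinLocFree (PerfB.FlatPull.isFinLocFree_pullback φ (hL.finLocFree k))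

variable [IsNoetherian Y₁] (hY₁ : KRR.HasEnoughLocFree Y₁)
  (hz : ∀ n p : ℕ, (U (pullCx φ L) p).map (IdealPow.incl f₁ n) = 0)

include hsq hf hf₁ hC₁ hC hF hL hY₁ hz in
theorem hasLFRes_U (p : ℕ) : ∀ n : ℕ, KRR.HasLFRes ((U (pullCx φ L) p).obj (IdealPow.J f₁ n)) := by
  have hP := flat_pullCx (φ := φ) hL
  have hS := Krr.H472.KoszulRel.isFinLocFree_S f₁ hf₁ d₁ hC₁
  have key : ∀ n p, KRR.HasLFRes ((U (pullCx φ L) p).obj
      ((Scheme.Modules.pushforward f₁).obj (IdealPow.S f₁ n))) := by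
    intro n p
    obtain ⟨e⟩ := nonempty_U hsq hf hC hF hL (IdealPow.S f₁ n) (hS n) p
    exact hasLFRes_iso hY₁ e.symm (PushRes.hasLFRes_pushforward hY₁ f₁ hf₁
      (LocBasis.isFinLocFree_tensorMod (hS n) (flf_W hf hC hF hL p)))
  induction p with
  | zero =>
    intro n
    have := isIso_map_zero _ hP (IdealPow.ses_shortExact f₁ n) (hz n 0)
    exact hasLFRes_iso hY₁ (asIso ((U (pullCx φ L) 0).map (IdealPow.ses f₁ n).g)).symm (key n 0)
  | succ p ih =>
    intro n
    have h1 := shortExact_of_zero _ hP (IdealPow.ses_shortExact f₁ n) p (hz n p) (hz n (p + 1))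
    exact hasLFRes_X₁ hY₁ h1 (key n (p + 1)) (ih (n + 1))

end Geo

end Main

end Groth.Agent.Krr.H468.ExcMain
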