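import Groth.Agent.Dcoh.FlatSES
import Mathlib.Algebra.Homology.HomologySequence
import Mathlib.Algebra.Homology.HomologySequenceLemmas
import Mathlib.Algebra.Homology.HomologicalComplexAbelian

/-!
# The homology modules of `N ⊗ P` for a complex `P` of flat modules, as a homological functor of `N`

`tcxF P : N ↦ N ⊗ P`, `U P p : N ↦ H_p(N ⊗ P)`; for `P` termwise flat and `0 ⟶ N₁ ⟶ N₂ ⟶ N₃ ⟶ 0` exact we get the
long exact sequence (`del`, `exact₁`, `exact₂`, `exact₃`).
-/

set_option autoImplicit false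
universe u
open CategoryTheory CategoryTheory.Limits AlgebraicGeometry

namespace Groth.Agent.Krr.H468.TCx

variable {Z : Scheme.{u}}

/-- The functor `N ↦ N ⊗ P` (termwise `N ⊗ P_k`, the module `N` on the left). -/
noncomputable def tcxF (P : ChainComplex Z.Modules ℕ) : Z.Modules ⥤ ChainComplex Z.Modules ℕ where
  obj N := (((DCoh.tensorBi (X := Z)).obj N).mapHomologicalComplex (ComplexShape.down ℕ)).obj P
  map g := (NatTrans.mapHomologicalComplex ((DCoh.tensorBi (X := Z)).map g) (ComplexShape.down ℕ)).app P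
  map_id N := by
    ext1 k
    change ((DCoh.tensorBi (X := Z)).map (𝟙 N)).app (P.X k) = 𝟙 _
    rw [CategoryTheory.Functor.map_id]
    rfl
  map_comp g h := by
    ext1 k
    change ((DCoh.tensorBi (X := Z)).map (g ≫ h)).app (P.X k) =
      ((DCoh.tensorBi (X := Z)).map g).app (P.X k) ≫ ((DCoh.tensorBi (X := Z)).map h).app (P.X k)
    rw [Functor.map_comp]
    rfl

theorem tcxF_obj_X (P : ChainComplex Z.Modules ℕ) (N : Z.Modules) (k : ℕ) :
    ((tcxF P).obj N).X k = ((DCoh.tensorBi (X := Z)).obj N).obj (P.X k) := rfl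

theorem tcxF_obj_d (P : ChainComplex Z.Modules ℕ) (N : Z.Modules) (j k : ℕ) :
    ((tcxF P).obj N).d j k = ((DCoh.tensorBi (X := Z)).obj N).map (P.d j k) := rfl

theorem tcxF_map_f (P : ChainComplex Z.Modules ℕ) {N N' : Z.Modules} (g : N ⟶ N') (k : ℕ) :
    ((tcxF P).map g).f k = ((DCoh.tensorBi (X := Z)).map g).app (P.X k) := rfl

instance (P : ChainComplex Z.Modules ℕ) : (tcxF P).Additive where
  map_add {N N' g h} := by
    ext1 k
    change ((DCoh.tensorBi (X := Z)).map (g + h)).app (P.X k) =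
      ((DCoh.tensorBi (X := Z)).map g).app (P.X k) + ((DCoh.tensorBi (X := Z)).map h).app (P.X k)
    rw [Functor.map_add]
    rfl

/-- A morphism of complexes `P ⟶ P'` induces `N ⊗ P ⟶ N ⊗ P'`, naturally in `N`. -/
noncomputable def tcxMap {P P' : ChainComplex Z.Modules ℕ} (α : P ⟶ P') : tcxF P ⟶ tcxF P' where
  app N := (((DCoh.tensorBi (X := Z)).obj N).mapHomologicalComplex (ComplexShape.down ℕ)).map α
  naturality N N' g := by
    ext1 k
    change ((DCoh.tensorBi (X := Z)).map g).app (P.X k) ≫ ((DCoh.tensorBi (X := Z)).obj N').map (α.f k) =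
      ((DCoh.tensorBi (X := Z)).obj N).map (α.f k) ≫ ((DCoh.tensorBi (X := Z)).map g).app (P'.X k)
    exact (((DCoh.tensorBi (X := Z)).map g).naturality (α.f k)).symm

/-- Isomorphic complexes give isomorphic functors. -/
noncomputable def tcxIso {P P' : ChainComplex Z.Modules ℕ} (e : P ≅ P') : tcxF P ≅ tcxF P' :=
  NatIso.ofComponents (fun N =>
    (((DCoh.tensorBi (X := Z)).obj N).mapHomologicalComplex (ComplexShape.down ℕ)).mapIso e)
    (fun g => (tcxMap e.hom).naturality g)

/-- `U P p N = H_p(N ⊗ P)`. -/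
noncomputable def U (P : ChainComplex Z.Modules ℕ) (p : ℕ) : Z.Modules ⥤ Z.Modules :=
  tcxF P ⋙ HomologicalComplex.homologyFunctor Z.Modules (ComplexShape.down ℕ) p

instance (P : ChainComplex Z.Modules ℕ) (p : ℕ) : (U P p).Additive := by
  unfold U
  infer_instance

theorem U_obj (P : ChainComplex Z.Modules ℕ) (p : ℕ) (N : Z.Modules) :
    (U P p).obj N = ((tcxF P).obj N).homology p := rfl

theorem U_map (P : ChainComplex Z.Modules ℕ) (p : ℕ) {N N' : Z.Modules} (g : N ⟶ N') :
    (U P p).map g = HomologicalComplex.homologyMap ((tcxF P).map g) p := rfl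

variable (P : ChainComplex Z.Modules ℕ) (hP : ∀ k, FlatMod.IsFlat (P.X k))

include hP in
/-- `N ↦ N ⊗ P` is exact if the terms of `P` are flat. -/
theorem shortExact_tcxF {S : ShortComplex Z.Modules} (hS : S.ShortExact) :
    (S.map (tcxF P)).ShortExact := by
  apply HomologicalComplex.shortExact_of_degreewise_shortExact
  intro k
  have h1 : PreservesFiniteLimits (DCoh.tensorBi.flip.obj (P.X k)) :=
    Dcoh.Stalk.preservesFiniteLimits_tensorBi_flip_obj (P.X k) (hP k)
  have h2 : PreservesFiniteColimits (DCoh.tensorBi.flip.obj (P.X k)) := inferInstance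
  have h3 : (DCoh.tensorBi.flip.obj (P.X k)).PreservesZeroMorphisms := inferInstance
  exact hS.map_of_exact (DCoh.tensorBi.flip.obj (P.X k))

theorem relSucc (p : ℕ) : (ComplexShape.down ℕ).Rel (p + 1) p := rfl

/-- The connecting morphism `H_{p+1}(N₃ ⊗ P) ⟶ H_p(N₁ ⊗ P)`. -/
noncomputable def del {S : ShortComplex Z.Modules} (hS : S.ShortExact) (p : ℕ) :
    (U P (p + 1)).obj S.X₃ ⟶ (U P p).obj S.X₁ :=
  (shortExact_tcxF P hP hS).δ (p + 1) p (relSucc p)

theorem del_map {S : ShortComplex Z.Modules} (hS : S.ShortExact) (p : ℕ) :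
    del P hP hS p ≫ (U P p).map S.f = 0 :=
  (shortExact_tcxF P hP hS).δ_comp (p + 1) p (relSucc p)

theorem map_del {S : ShortComplex Z.Modules} (hS : S.ShortExact) (p : ℕ) :
    (U P (p + 1)).map S.g ≫ del P hP hS p = 0 :=
  (shortExact_tcxF P hP hS).comp_δ (p + 1) p (relSucc p)

/-- Exactness at `H_p(N₁ ⊗ P)`. -/
theorem exact₁ {S : ShortComplex Z.Modules} (hS : S.ShortExact) (p : ℕ) :
    (ShortComplex.mk _ _ (del_map P hP hS p)).Exact :=
  (shortExact_tcxF P hP hS).homology_exact₁ (p + 1) p (relSucc p)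

include hP in
/-- Exactness at `H_p(N₂ ⊗ P)`. -/
theorem exact₂ {S : ShortComplex Z.Modules} (hS : S.ShortExact) (p : ℕ) :
    (S.map (U P p)).Exact :=
  (shortExact_tcxF P hP hS).homology_exact₂ p

/-- Exactness at `H_{p+1}(N₃ ⊗ P)`. -/
theorem exact₃ {S : ShortComplex Z.Modules} (hS : S.ShortExact) (p : ℕ) :
    (ShortComplex.mk _ _ (map_del P hP hS p)).Exact :=
  (shortExact_tcxF P hP hS).homology_exact₃ (p + 1) p (relSucc p)

include hP in
/-- `H_0(- ⊗ P)` is right exact. -/
theorem epi_map_zero {S : ShortComplex Z.Modules} (hS : S.ShortExact) : Epi ((U P 0).map S.g) := by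
  have h0 : Epi (S.map (tcxF P)).g := (shortExact_tcxF P hP hS).epi_g
  exact HomologicalComplex.epi_homologyMap_of_epi_of_not_rel (S.map (tcxF P)).g 0 (fun j hj => by
    change j + 1 = 0 at hj
    omega)

/-- Vanishing of two consecutive maps gives a short exact sequence
`0 ⟶ H_{p+1}(N₂ ⊗ P) ⟶ H_{p+1}(N₃ ⊗ P) ⟶ H_p(N₁ ⊗ P) ⟶ 0`. -/
theorem shortExact_of_zero {S : ShortComplex Z.Modules} (hS : S.ShortExact) (p : ℕ)
    (h0 : (U P p).map S.f = 0) (h1 : (U P (p + 1)).map S.f = 0) :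
    (ShortComplex.mk ((U P (p + 1)).map S.g) (del P hP hS p) (map_del P hP hS p)).ShortExact where
  exact := exact₃ P hP hS p
  mono_f := (exact₂ P hP hS (p + 1)).mono_g h1
  epi_g := (exact₁ P hP hS p).epi_f h0

include hP in
/-- In degree `0`: if `H_0(N₁ ⊗ P) ⟶ H_0(N₂ ⊗ P)` vanishes then `H_0(N₂ ⊗ P) ≅ H_0(N₃ ⊗ P)`. -/
theorem isIso_map_zero {S : ShortComplex Z.Modules} (hS : S.ShortExact)
    (h0 : (U P 0).map S.f = 0) : IsIso ((U P 0).map S.g) := by
  have h1 : Mono ((U P 0).map S.g) := (exact₂ P hP hS 0).mono_g h0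
  have h2 := epi_map_zero P hP hS
  exact isIso_of_mono_of_epi _

end Groth.Agent.Krr.H468.TCx
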